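import Groth.Agent.Unr55.QCoh.CechQCoh
import Groth.Agent.Mum71.OnCoc

/-!
Étale cohomology of the sheaf associated to a quasi-coherent module is Zariski cohomology.
-/

set_option autoImplicit false
set_option backward.isDefEq.respectTransparency false
set_option backward.isDefEq.respectTransparency.types false

noncomputable section

universe u

open CategoryTheory CategoryTheory.Limits AlgebraicGeometry Opposite TopologicalSpace
open Groth.Agent.QC70 Groth.Agent.QCPull72 Groth.Agent.LimTop61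

namespace Groth.Agent.Desc59.AssocZar

section

universe w' w v' u'

variable {C : Type u'} [Category.{v'} C] {J : GrothendieckTopology C} [HasSheafify J AddCommGrpCat.{w}]
  [HasExt.{w'} (Sheaf J AddCommGrpCat.{w})]

/-- Cohomology of isomorphic sheaves. -/
def HIso {A B : Sheaf J AddCommGrpCat.{w}} (i : A ≅ B) (n : ℕ) : Sheaf.H A n ≃+ Sheaf.H B n where
  toFun := Sheaf.H.map i.hom n
  invFun := Sheaf.H.map i.inv n
  left_inv x := by rw [← Sheaf.H.map_comp_apply, i.hom_inv_id, Sheaf.H.map_id_apply]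
  right_inv x := by rw [← Sheaf.H.map_comp_apply, i.inv_hom_id, Sheaf.H.map_id_apply]
  map_add' := map_add _

end

variable {S : Scheme.{u}} (F : S.Modules)

theorem top_le (U : S.Opens) : (⊤ : U.toScheme.Opens) ≤ U.ι ⁻¹ᵁ U := fun x _ => x.2

/-- A section over an open as a section of the restriction. -/
def rho (U : S.Opens) : Γ(F, U) →+ Γ((Scheme.Modules.pullback U.ι).obj F, ⊤) :=
  AddMonoidHom.mk' (fun x => unitSec U.ι F (top_le U) x) (unitSec_add _ _ _)

theorem rho_bijective (U : S.Opens) : Function.Bijective (rho F U) := by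
  have e : U.ι ''ᵁ ⊤ = U := U.ι_image_top
  have h1 : ∀ x, rho F U x =
      ((Scheme.Modules.restrictFunctorIsoPullback U.ι).hom.app F).app ⊤
        ((F.restrictAppIso U.ι ⊤).inv (res F e.le x)) := fun x => by
    rw [Mum71.restrictIso_restr, unitSec_res U.ι F (top_le U) _ e.le le_rfl x]
    exact (res_self _).symm
  rw [show (rho F U : _ → _) = (fun y => ((Scheme.Modules.restrictFunctorIsoPullback U.ι).hom.app F).app ⊤ y) ∘
    (fun y => (F.restrictAppIso U.ι ⊤).inv y) ∘ (fun x => res F e.le x) from funext h1]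
  refine (ConcreteCategory.bijective_of_isIso _).comp ((ConcreteCategory.bijective_of_isIso _).comp
    ⟨fun a b h => ?_, fun y => ⟨res F e.ge y, ?_⟩⟩)
  · have h2 := congrArg (res F e.ge) h
    simpa only [res_res, res_self] using h2
  · show res F e.le (res F e.ge y) = y
    rw [res_res, res_self]

theorem rho_res {U V : S.Opens} (hVU : V ≤ U) (x : Γ(F, U)) :
    EtAssoc.resMap F ((EtZar.zarToEt S).map (homOfLE hVU)) (rho F U x) = rho F V (res F hVU x) := by
  rw [EtAssocSheaf.resMap_eq]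
  refine (QSheaf.tr_unitSec _ F (top_le U) _ ((top_le V).trans (V.ι.preimage_mono hVU)) x).trans ?_
  exact ((unitSec_res V.ι F _ (top_le V) hVU le_rfl x).trans (res_self _)).symm

theorem exists_iso [F.IsQuasicoherent] (G : EtCoh.Ab S) (hG : EtAssoc.IsAssoc F G) :
    Nonempty ((EtZar.resZar S).obj G ≅ (Unr55.GaZar.liftU S).obj (Coh.toAb F)) := by
  obtain ⟨e, he⟩ := hG
  let ψ : ∀ U : S.Opens, (G.obj.obj (op ((EtZar.zarToEt S).obj U)) : Type (u + 1)) ≃+ ULift.{u + 1} Γ(F, U) :=
    fun U => (e ((EtZar.zarToEt S).obj U)).trans (AddEquiv.ulift.trans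
      ((AddEquiv.ofBijective (rho F U) (rho_bijective F U)).symm.trans AddEquiv.ulift.symm))
  have hψ : ∀ U s, rho F U (ψ U s).down = (e ((EtZar.zarToEt S).obj U) s).down := fun U s =>
    (AddEquiv.ofBijective (rho F U) (rho_bijective F U)).apply_symm_apply _
  refine ⟨(sheafToPresheaf _ _).preimageIso (NatIso.ofComponents (fun U => (ψ U.unop).toAddCommGrpIso)
    (fun {U V} i => ?_))⟩
  ext s
  refine ULift.ext _ _ ((rho_bijective F V.unop).1 ((hψ _ _).trans ?_))
  refine (he _ _ ((EtZar.zarToEt S).map i.unop) s).trans ?_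
  rw [← hψ U.unop s]
  exact rho_res F i.unop.le _

theorem H_equiv [F.IsQuasicoherent] (G : EtCoh.Ab S) (hG : EtAssoc.IsAssoc F G) (q : ℕ) :
    Nonempty (EtCoh.H S G q ≃+ Coh.HH S F q) := by
  obtain ⟨e₁⟩ := Unr55.GaZar.H_equiv_resZar S G (Unr55.QCohCech.good_assoc F G hG) q
  obtain ⟨e₂⟩ := Unr55.GaZar.H_equiv_liftU S (Coh.toAb F) q
  obtain ⟨i⟩ := exists_iso F G hG
  let e₃ : EtZar.H ((EtZar.resZar S).obj G) q ≃+ EtZar.H ((Unr55.GaZar.liftU S).obj (Coh.toAb F)) q :=
    HIso i q
  exact ⟨(e₁.trans e₃).trans e₂.symm⟩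

end Groth.Agent.Desc59.AssocZar
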